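import Groth.Prelude.Def_DiffOp
import Mathlib.Algebra.BigOperators.Group.Finset.Basic
import Mathlib.Algebra.BigOperators.Group.Finset.Powerset
import Mathlib.Data.Fintype.Powerset
import Mathlib.Data.Fintype.BigOperators
import Mathlib.RingTheory.Adjoin.Basic

set_option autoImplicit false
universe u v

set_option linter.unusedSectionVars false

namespace DiffOp16Lib

open Diff16

section
variable {A B : Type u} [CommRing A] [CommRing B] [Algebra A B]
variable {M N P : Type v} [AddCommGroup M] [Module A M] [Module B M] [IsScalarTower A B M]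
  [AddCommGroup N] [Module A N] [Module B N] [IsScalarTower A B N]
  [AddCommGroup P] [Module A P] [Module B P] [IsScalarTower A B P]

theorem commutator_apply (D : M →ₗ[A] N) (b : B) (m : M) :
    commutator A B M N D b m = D (b • m) - b • D m := rfl

theorem commutator_add (D E : M →ₗ[A] N) (b : B) :
    commutator A B M N (D + E) b = commutator A B M N D b + commutator A B M N E b := by
  ext m; simp only [commutator_apply, LinearMap.add_apply, smul_add]; abel

theorem commutator_zero (b : B) : commutator A B M N (0 : M →ₗ[A] N) b = 0 := by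
  ext m; simp [commutator_apply]

theorem commutator_smul (c : B) (D : M →ₗ[A] N) (b : B) :
    commutator A B M N (c • D) b = c • commutator A B M N D b := by
  ext m; simp only [commutator_apply, LinearMap.smul_apply, smul_sub, smul_comm b c]

theorem commutator_lsmul_comp (c : B) (D : M →ₗ[A] N) (b : B) :
    commutator A B M N (D ∘ₗ (LinearMap.lsmul B M c).restrictScalars A) b =
      commutator A B M N D b ∘ₗ (LinearMap.lsmul B M c).restrictScalars A := by
  ext m; simp [commutator_apply, smul_comm c b]

theorem commutator_add_right (D : M →ₗ[A] N) (b c : B) :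
    commutator A B M N D (b + c) = commutator A B M N D b + commutator A B M N D c := by
  ext m; simp only [commutator_apply, LinearMap.add_apply, add_smul, map_add]; abel

theorem commutator_algebraMap (D : M →ₗ[A] N) (a : A) :
    commutator A B M N D (algebraMap A B a) = 0 := by
  ext m; simp [commutator_apply, algebraMap_smul]

theorem commutator_mul (D : M →ₗ[A] N) (b c : B) :
    commutator A B M N D (b * c) =
      commutator A B M N D b ∘ₗ (LinearMap.lsmul B M c).restrictScalars A +
        b • commutator A B M N D c := by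
  ext m
  simp [commutator_apply, mul_smul, smul_sub]

theorem commutator_comp (D : M →ₗ[A] N) (D' : N →ₗ[A] P) (b : B) :
    commutator A B M P (D' ∘ₗ D) b =
      commutator A B N P D' b ∘ₗ D + D' ∘ₗ commutator A B M N D b := by
  ext m; simp [commutator_apply]

theorem isDiffOpLE_zero_map : ∀ n : ℕ, IsDiffOpLE A B M N n (0 : M →ₗ[A] N)
  | 0 => by intro b m; simp
  | n + 1 => fun b => by rw [commutator_zero]; exact isDiffOpLE_zero_map n

theorem isDiffOpLE_add : ∀ {n : ℕ} {D E : M →ₗ[A] N},
    IsDiffOpLE A B M N n D → IsDiffOpLE A B M N n E → IsDiffOpLE A B M N n (D + E)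
  | 0, D, E, hD, hE => fun b m => by simp [hD b m, hE b m]
  | n + 1, D, E, hD, hE => fun b => by
      rw [commutator_add]; exact isDiffOpLE_add (hD b) (hE b)

theorem isDiffOpLE_smul (c : B) : ∀ {n : ℕ} {D : M →ₗ[A] N},
    IsDiffOpLE A B M N n D → IsDiffOpLE A B M N n (c • D)
  | 0, D, hD => fun b m => by simp [hD b m, smul_comm c b]
  | n + 1, D, hD => fun b => by
      rw [commutator_smul]; exact isDiffOpLE_smul c (hD b)

theorem isDiffOpLE_lsmul_comp (c : B) : ∀ {n : ℕ} {D : M →ₗ[A] N},
    IsDiffOpLE A B M N n D →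
      IsDiffOpLE A B M N n (D ∘ₗ (LinearMap.lsmul B M c).restrictScalars A)
  | 0, D, hD => fun b m => by simp [hD b, hD c, smul_comm b c]
  | n + 1, D, hD => fun b => by
      rw [commutator_lsmul_comp]; exact isDiffOpLE_lsmul_comp c (hD b)

theorem commutator_eq_zero {D : M →ₗ[A] N} (hD : IsDiffOpLE A B M N 0 D) (b : B) :
    commutator A B M N D b = 0 := by
  ext m; simp [commutator_apply, hD b m]

theorem isDiffOpLE_comp : ∀ (n n' : ℕ) (D : M →ₗ[A] N) (D' : N →ₗ[A] P),
    IsDiffOpLE A B M N n D → IsDiffOpLE A B N P n' D' →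
      IsDiffOpLE A B M P (n + n') (D' ∘ₗ D)
  | 0, 0, D, D', hD, hD' => fun b m => by simp [hD b m, hD' b (D m)]
  | 0, n' + 1, D, D', hD, hD' => fun b => by
      rw [commutator_comp, commutator_eq_zero hD b, LinearMap.comp_zero, add_zero]
      exact isDiffOpLE_comp 0 n' D _ hD (hD' b)
  | n + 1, 0, D, D', hD, hD' => fun b => by
      rw [commutator_comp, commutator_eq_zero hD' b, LinearMap.zero_comp, zero_add]
      exact isDiffOpLE_comp n 0 _ D' (hD b) hD'
  | n + 1, n' + 1, D, D', hD, hD' => fun b => by
      rw [commutator_comp]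
      refine isDiffOpLE_add ?_ ?_
      · exact isDiffOpLE_comp (n + 1) n' D _ hD (hD' b)
      · have h := isDiffOpLE_comp n (n' + 1) _ D' (hD b) hD'
        rwa [show n + (n' + 1) = n + 1 + n' by omega] at h
  termination_by n n' => n + n'

theorem isDiffOpLE_succ_of_adjoin (s : Set B) (hs : Algebra.adjoin A s = ⊤) (n : ℕ)
    (D : M →ₗ[A] N) (hD : ∀ g ∈ s, IsDiffOpLE A B M N n (commutator A B M N D g)) :
    IsDiffOpLE A B M N (n + 1) D := by
  intro b
  have hb : b ∈ Algebra.adjoin A s := by rw [hs]; trivial
  induction hb using Algebra.adjoin_induction with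
  | mem x hx => exact hD x hx
  | algebraMap a => rw [commutator_algebraMap]; exact isDiffOpLE_zero_map n
  | add x y _ _ hx hy => rw [commutator_add_right]; exact isDiffOpLE_add hx hy
  | mul x y _ _ hx hy =>
      rw [commutator_mul]
      exact isDiffOpLE_add (isDiffOpLE_lsmul_comp y hx) (isDiffOpLE_smul x hy)

/-- The alternating sum attached to a finite set of elements of `B`. -/
noncomputable def altSum {ι : Type*} [DecidableEq ι] (s : Finset ι) (b : ι → B) (D : M →ₗ[A] N)
    (t : M) : N :=
  ∑ H ∈ s.powerset, ((-1 : ℤ) ^ H.card) • ((∏ i ∈ H, b i) • D ((∏ i ∈ s \ H, b i) • t))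

theorem altSum_empty {ι : Type*} [DecidableEq ι] (b : ι → B) (D : M →ₗ[A] N) (t : M) :
    altSum ∅ b D t = D t := by
  simp [altSum]

theorem altSum_insert {ι : Type*} [DecidableEq ι] {a : ι} {s : Finset ι} (ha : a ∉ s)
    (b : ι → B) (D : M →ₗ[A] N) (t : M) :
    altSum (insert a s) b D t = altSum s b (commutator A B M N D (b a)) t := by
  rw [altSum, altSum, Finset.sum_powerset_insert ha, ← Finset.sum_add_distrib]
  refine Finset.sum_congr rfl fun H hH => ?_
  have hHs : H ⊆ s := Finset.mem_powerset.mp hH
  have haH : a ∉ H := fun h => ha (hHs h)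
  have h1 : insert a s \ H = insert a (s \ H) := Finset.insert_sdiff_of_notMem s haH
  have h2 : insert a s \ insert a H = s \ H := by
    ext x
    simp only [Finset.mem_sdiff, Finset.mem_insert, not_or]
    refine ⟨fun h => ⟨h.1.resolve_left h.2.1, h.2.2⟩, fun h => ⟨Or.inr h.1, ?_, h.2⟩⟩
    rintro rfl; exact ha h.1
  have h3 : a ∉ s \ H := fun h => ha (Finset.mem_sdiff.mp h).1
  rw [h1, h2, Finset.prod_insert h3, Finset.prod_insert haH, Finset.card_insert_of_notMem haH,
    commutator_apply, pow_succ, smul_sub, smul_sub, mul_smul, mul_smul]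
  simp only [neg_smul, one_smul, smul_neg, mul_smul]
  rw [smul_comm (b a) (∏ i ∈ H, b i), ← sub_eq_add_neg]

theorem altSum_map {ι κ : Type*} [DecidableEq ι] [DecidableEq κ] (e : ι ↪ κ) (s : Finset ι)
    (b : κ → B) (D : M →ₗ[A] N) (t : M) :
    altSum (s.map e) b D t = altSum s (fun i => b (e i)) D t := by
  induction s using Finset.induction_on generalizing D with
  | empty => simp [altSum_empty]
  | @insert a s ha ih =>
      rw [Finset.map_insert, altSum_insert (by simpa using ha), altSum_insert ha, ih]

theorem altSum_eq_zero_of_isDiffOpLE {ι : Type*} [DecidableEq ι] (b : ι → B) :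
    ∀ (n : ℕ) (s : Finset ι) (D : M →ₗ[A] N), IsDiffOpLE A B M N n D → s.card = n + 1 →
      ∀ t, altSum s b D t = 0
  | 0, s, D, hD, hs, t => by
      obtain ⟨a, rfl⟩ := Finset.card_eq_one.mp hs
      rw [show ({a} : Finset ι) = insert a ∅ by simp, altSum_insert (Finset.notMem_empty a),
        altSum_empty, commutator_eq_zero hD]
      rfl
  | n + 1, s, D, hD, hs, t => by
      obtain ⟨a, s', ha, rfl, hs'⟩ := Finset.card_eq_succ.mp hs
      rw [altSum_insert ha]
      exact altSum_eq_zero_of_isDiffOpLE b n s' _ (hD (b a)) hs' t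

theorem isDiffOpLE_of_altSum_eq_zero :
    ∀ (n : ℕ) (D : M →ₗ[A] N),
      (∀ (b : Fin (n + 1) → B) (t : M), altSum Finset.univ b D t = 0) → IsDiffOpLE A B M N n D
  | 0, D, h => fun c m => by
      have := h (fun _ => c) m
      rw [show (Finset.univ : Finset (Fin 1)) = insert 0 ∅ by decide,
        altSum_insert (Finset.notMem_empty _), altSum_empty, commutator_apply, sub_eq_zero] at this
      exact this
  | n + 1, D, h => fun c => by
      refine isDiffOpLE_of_altSum_eq_zero n _ fun b t => ?_
      have := h (Fin.cons c b) t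
      rw [Fin.univ_succ, Finset.cons_eq_insert, altSum_insert (by simp), altSum_map] at this
      simpa using this

theorem altSum_univ {ι : Type*} [DecidableEq ι] [Fintype ι] (b : ι → B) (D : M →ₗ[A] N) (t : M) :
    altSum Finset.univ b D t =
      ∑ H : Finset ι, ((-1 : ℤ) ^ H.card) • ((∏ i ∈ H, b i) • D ((∏ i ∈ Hᶜ, b i) • t)) := by
  rw [altSum, Finset.powerset_univ]
  simp only [Finset.compl_eq_univ_sdiff]

theorem linearize_tmul (D : M →ₗ[A] N) (x : B) (m : M) :
    linearize A B M N D (x ⊗ₜ[A] m) = x • D m := rfl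

end

end DiffOp16Lib
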